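import Cfsg.Agent.H510.CS.Irr_m3
import Cfsg.Agent.H847.Bs.Defs2
import Cfsg.Agent.FastGrp
import Cfsg.Agent.Prune
set_option linter.all false

section
prune_inst 0x7ffeeffdafbfbddfdfff7fffa7decdfdffbdbfffb6fffdcbffe2e9ffebdf7f92cdef6fbd8bfbf8fe5ff7e234d4e8fb43f97ecfffe26bdc7ffffd5ff45ffbffcffdf7bd0951d48c340fbc0ffe63f0778e7f3ffffffffcffffffffffffffffffbeffbfffffffff

-- part: H450/Bs/GenU
section
prune_inst 0x100021040422000000000000002000002400040000000000006000000800c000000000000010000000008001600100200200001000000000000000000000000000010200b018a000000010000000000000000000300000000000000000000000000000000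
set_option linter.all false
open scoped Cfsg.Agent.FastGrp

/-!
# Irreducible subgroups of the special unitary group with a large transvection subgroup (helper450, S5733 BS32)

* `PP B H c` : `H` contains all transvections with centre `c`;
* `WW B H W` : `W` is nondegenerate and all its isotropic vectors are centres;
* `main` : `H` irreducible, `WW B H W`, `dim W ≥ 4`: `SIso B ≤ H` or `H` has a proper nondegenerate block.
-/

set_option autoImplicit false
set_option linter.unusedSectionVars false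

namespace Cfsg.Agent.H450.Bs

open Module Cfsg.Agent.H91.U Cfsg.Agent.H450.UF
open Cfsg.Agent.ClassicalGeometry.HermWitt (trace_surj norm_surj)

variable {F V : Type*} [Field F] [AddCommGroup V] [Module F V] {σ : F →+* F} {B : V →ₛₗ[σ] V →ₗ[F] F}

/-- elements of trace zero -/
theorem exists_trz (hB : HForm B) : ∃ t : F, t ≠ 0 ∧ t + σ t = 0 := by
  obtain ⟨x, hx⟩ : ∃ x, σ x ≠ x := by
    by_contra hcon
    push Not at hcon
    exact hB.ne_id (RingHom.ext hcon)
  exact ⟨x - σ x, fun e => hx (sub_eq_zero.1 e).symm, by rw [map_sub, hB.invol]; ring⟩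

theorem exists_not_fixed' (hB : HForm B) : ∃ x : F, σ x ≠ x := by
  by_contra hcon
  push Not at hcon
  exact hB.ne_id (RingHom.ext hcon)

theorem quad (x y : V) (m : F) :
    B (x + m • y) (x + m • y) = B x x + m * B x y + σ m * B y x + σ m * m * B y y := by
  rw [map_add (B (x + m • y)), map_add B, LinearMap.add_apply, LinearMap.add_apply, smul_left, smul_left, smul_right,
    smul_right]
  ring

/-- the restricted form -/
def res (B : V →ₛₗ[σ] V →ₗ[F] F) (W : Submodule F V) : W →ₛₗ[σ] W →ₗ[F] F := B.domRestrict₁₂ W W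

theorem res_apply (W : Submodule F V) (x y : W) : res B W x y = B (x : V) (y : V) := rfl

theorem hform_res (hB : HForm B) {W : Submodule F V} (hW : ∀ x ∈ W, (∀ y ∈ W, B x y = 0) → x = 0) :
    HForm (res B W) where
  nd := ⟨fun x hx => Subtype.ext (hW x x.2 fun y hy => hx ⟨y, hy⟩), fun y hy => Subtype.ext (hW y y.2 fun x hx =>
    hB.swap_zero (hy ⟨x, hx⟩))⟩
  symm := ⟨fun x y => hB.symm.eq x y⟩
  invol := hB.invol
  ne_id := hB.ne_id

/-- every vector is the sum of a vector of `W` and a vector orthogonal to `W` -/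
theorem exists_decomp [Finite F] [FiniteDimensional F V] (hB : HForm B) {W : Submodule F V}
    (hW : ∀ x ∈ W, (∀ y ∈ W, B x y = 0) → x = 0) (v : V) : ∃ a ∈ W, ∃ b, (∀ w ∈ W, B w b = 0) ∧ v = a + b := by
  let b := Module.finBasis F W
  obtain ⟨x, hx⟩ := exists_dual (hform_res hB hW) b.linearIndependent (fun i => B v (b i))
  refine ⟨x, x.2, v - x, ?_, by abel⟩
  have h1 : ∀ i, B (v - x) (b i) = 0 := fun i => by
    rw [map_sub, LinearMap.sub_apply, sub_eq_zero]
    exact (hx i).symm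
  intro w hw
  apply hB.swap_zero
  have h3 : w = ∑ i, b.repr ⟨w, hw⟩ i • (b i : V) := by
    have := congrArg Subtype.val (b.sum_repr ⟨w, hw⟩).symm
    rw [Submodule.coe_sum] at this
    exact this
  rw [h3, map_sum]
  exact Finset.sum_eq_zero fun i _ => by rw [smul_right, h1, mul_zero]

variable (B) in
/-- `H` contains all transvections with centre `c` -/
def PP (H : Subgroup (V ≃ₗ[F] V)) (c : V) : Prop :=
  ∀ l : F, l + σ l = 0 → ∀ g : V ≃ₗ[F] V, IsTv B c l g → g ∈ H

variable (B) in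
/-- `W` is nondegenerate and all its isotropic vectors are centres of transvections of `H` -/
structure WW (H : Subgroup (V ≃ₗ[F] V)) (W : Submodule F V) : Prop where
  nd : ∀ x ∈ W, (∀ y ∈ W, B x y = 0) → x = 0
  pp : ∀ c ∈ W, c ≠ 0 → B c c = 0 → PP B H c

variable {H : Subgroup (V ≃ₗ[F] V)}

theorem PP.map {c : V} (hc : PP B H c) {h : V ≃ₗ[F] V} (hh : h ∈ H) (hi : ∀ x y, B (h x) (h y) = B x y) :
    PP B H (h c) := by
  intro l hl g hg
  have h1 := hc l hl _ (hg.conj hi)
  have h2 := H.mul_mem (H.mul_mem hh h1) (H.inv_mem hh)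
  have : h * (h⁻¹ * g * h) * h⁻¹ = g := by group
  rwa [this] at h2

theorem PP.smul {c : V} (hB : HForm B) (hc : PP B H c) (m : F) : PP B H (m • c) := by
  intro l hl g hg
  refine hc (l * (σ m * m)) ?_ g fun x => ?_
  · rw [map_mul, map_mul, hB.invol]
    linear_combination (σ m * m) * hl
  · rw [hg, smul_left, smul_smul]
    congr 2
    ring

theorem PP.line (hB : HForm B) (hi : ∀ h ∈ H, ∀ x y, B (h x) (h y) = B x y) {c c' : V} (hc : PP B H c)
    (hc' : PP B H c') (h0 : B c c = 0) (h0' : B c' c' = 0) (hne : B c c' ≠ 0) {m : F}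
    (hm : B (c + m • c') (c + m • c') = 0) : PP B H (c + m • c') := by
  have hne' : B c' c ≠ 0 := fun e => hne (hB.swap_zero e)
  obtain ⟨g, hg⟩ := exists_tv h0' (m / B c' c)
  have hgH : g ∈ H := by
    refine hc' _ ?_ g hg
    rw [map_div₀, ← sw hB c' c]
    rw [map_add, map_add, LinearMap.add_apply, LinearMap.add_apply, smul_left, smul_left, smul_right,
      smul_right, h0, h0'] at hm
    field_simp
    linear_combination hm
  have h1 := hc.map hgH (hi g hgH)
  rwa [hg, div_mul_cancel₀ _ hne'] at h1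

/-- the elements of `SU(W)` are induced by elements of `H` which are trivial on the orthogonal space -/
theorem WW.lift [Finite F] [FiniteDimensional F V] (hB : HForm B) {W : Submodule F V} (hW : WW B H W)
    (h4 : 4 ≤ finrank F W) {g : W ≃ₗ[F] W} (hg : g ∈ SIso (res B W)) :
    ∃ h ∈ H, (∀ w : W, h w = g w) ∧ ∀ u, (∀ w ∈ W, B w u = 0) → h u = u := by
  let K : Subgroup (W ≃ₗ[F] W) :=
    { carrier := {g | ∃ h ∈ H, (∀ w : W, h w = g w) ∧ ∀ u, (∀ w ∈ W, B w u = 0) → h u = u}
      mul_mem' := by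
        rintro g g' ⟨h, hh, h1, h2⟩ ⟨h', hh', h1', h2'⟩
        refine ⟨h * h', H.mul_mem hh hh', fun w => ?_, fun u hu => ?_⟩
        · change h (h' w) = g (g' w)
          rw [h1', h1]
        · change h (h' u) = u
          rw [h2' u hu, h2 u hu]
      one_mem' := ⟨1, H.one_mem, fun _ => rfl, fun _ _ => rfl⟩
      inv_mem' := by
        rintro g ⟨h, hh, h1, h2⟩
        refine ⟨h⁻¹, H.inv_mem hh, fun w => ?_, fun u hu => ?_⟩
        · change h.symm w = g.symm w
          rw [LinearEquiv.symm_apply_eq, h1, g.apply_symm_apply]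
        · change h.symm u = u
          rw [LinearEquiv.symm_apply_eq, h2 u hu] }
  have hK : SIso (res B W) ≤ K := by
    refine gen (hform_res hB hW.nd) h4 fun c hc0 hcc l hl g hg => ?_
    obtain ⟨h, hh⟩ := exists_tv (B := B) (c := (c : V)) hcc l
    refine ⟨h, hW.pp c c.2 (fun e => hc0 (Subtype.ext e)) hcc l hl h hh, fun w => ?_, fun u hu => ?_⟩
    · rw [hh, hg]
      rfl
    · rw [hh, hu c c.2, mul_zero, zero_smul, add_zero]
  exact hK hg

/-- `H` is transitive on the nonzero vectors of `W` of given norm -/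
theorem WW.trans [Finite F] [FiniteDimensional F V] (hB : HForm B) {W : Submodule F V} (hW : WW B H W)
    (h4 : 4 ≤ finrank F W) {a a' : V} (ha : a ∈ W) (ha' : a' ∈ W) (h0 : a ≠ 0) (h0' : a' ≠ 0) (he : B a a = B a' a') :
    ∃ h ∈ H, h a = a' ∧ ∀ u, (∀ w ∈ W, B w u = 0) → h u = u := by
  obtain ⟨g, hg, hd, hga⟩ := witt_su_small (hform_res hB hW.nd) (w := fun _ : Fin 1 => (⟨a, ha⟩ : W))
    (w' := fun _ : Fin 1 => (⟨a', ha'⟩ : W)) (LinearIndependent.of_subsingleton (R := F) 0 (fun e => h0 (congrArg Subtype.val e)))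
    (LinearIndependent.of_subsingleton (R := F) 0 (fun e => h0' (congrArg Subtype.val e))) (fun _ _ => he) (by
      rw [Fintype.card_fin]; omega)
  obtain ⟨h, hh, h1, h2⟩ := hW.lift hB h4 (g := g) ⟨Units.ext (by rw [LinearEquiv.coe_det, hd, Units.val_one]), hg⟩
  refine ⟨h, hh, ?_, h2⟩
  have := h1 ⟨a, ha⟩
  rw [hga 0] at this
  exact this

/-- **no anisotropic components** for a maximal `W` -/
theorem WW.no_aniso [Finite F] [FiniteDimensional F V] (hB : HForm B) (hi : ∀ h ∈ H, ∀ x y, B (h x) (h y) = B x y)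
    {W : Submodule F V} (hW : WW B H W) (h4 : 4 ≤ finrank F W)
    (hmax : ∀ W', WW B H W' → finrank F W' ≤ finrank F W) {a b : V} (ha : a ∈ W) (hb : ∀ w ∈ W, B w b = 0)
    (hp : PP B H (a + b)) (hab : B (a + b) (a + b) = 0) : B b b = 0 := by
  by_contra hbb
  have hb' : ∀ w ∈ W, B b w = 0 := fun w hw => hB.swap_zero (hb w hw)
  have haa : B a a + B b b = 0 := by
    rw [map_add, map_add, LinearMap.add_apply, LinearMap.add_apply, hb a ha, hb' a ha, add_zero, zero_add] at hab
    exact hab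
  have ha0 : a ≠ 0 := by
    rintro rfl
    rw [map_zero, zero_add] at haa
    exact hbb haa
  have hbW : b ∉ W := fun h => hbb (hb b h)
  have hlt : finrank F W < finrank F (W ⊔ Submodule.span F {b} : Submodule F V) := by
    apply Submodule.finrank_lt_finrank_of_lt
    refine lt_of_le_of_ne le_sup_left fun e => hbW ?_
    rw [e]
    exact Submodule.mem_sup_right (Submodule.mem_span_singleton_self b)
  refine absurd (hmax (W ⊔ Submodule.span F {b}) ⟨?_, ?_⟩) (not_le.2 hlt)
  · intro x hx h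
    obtain ⟨w, hw, y, hy, rfl⟩ := Submodule.mem_sup.1 hx
    obtain ⟨m, rfl⟩ := Submodule.mem_span_singleton.1 hy
    have hw0 : w = 0 := by
      refine hW.nd w hw fun z hz => ?_
      have := h z (Submodule.mem_sup_left hz)
      rw [map_add, LinearMap.add_apply, smul_left, hb' z hz, mul_zero, add_zero] at this
      exact this
    have := h b (Submodule.mem_sup_right (Submodule.mem_span_singleton_self b))
    rw [map_add, LinearMap.add_apply, smul_left, hb w hw, zero_add, mul_eq_zero] at this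
    have hm : m = 0 := by
      rcases this with h1 | h1
      · exact (map_eq_zero σ).1 h1
      · exact absurd h1 hbb
    rw [hw0, hm, zero_smul, add_zero]
  · intro c hc hc0 hcc
    obtain ⟨w, hw, y, hy, rfl⟩ := Submodule.mem_sup.1 hc
    obtain ⟨m, rfl⟩ := Submodule.mem_span_singleton.1 hy
    by_cases hm : m = 0
    · rw [hm, zero_smul, add_zero] at hc0 hcc ⊢
      exact hW.pp w hw hc0 hcc
    have hww : B w w + σ m * m * B b b = 0 := by
      rw [map_add, map_add, LinearMap.add_apply, LinearMap.add_apply, smul_left, smul_left, smul_right,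
        smul_right, hb w hw, hb' w hw] at hcc
      linear_combination hcc
    have hsm := sig_ne_zero (σ := σ) hm
    have he : B a a = B (m⁻¹ • w) (m⁻¹ • w) := by
      rw [smul_left, smul_right, map_inv₀]
      field_simp
      linear_combination (σ m * m) * haa - hww
    have hw0 : m⁻¹ • w ≠ 0 := by
      intro e
      rw [e, map_zero] at he
      rw [he, zero_add] at haa
      exact hbb haa
    obtain ⟨h, hh, h1, h2⟩ := hW.trans hB h4 ha (W.smul_mem _ hw) ha0 hw0 he
    have h3 := (hp.map hh (hi h hh)).smul hB m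
    rwa [map_add, h1, h2 b hb, smul_add, smul_smul, mul_inv_cancel₀ hm, one_smul] at h3

/-- the isotropic mixed components -/
def Mx (B : V →ₛₗ[σ] V →ₗ[F] F) (H : Subgroup (V ≃ₗ[F] V)) (W : Submodule F V) (b : V) : Prop :=
  b ≠ 0 ∧ (∀ w ∈ W, B w b = 0) ∧ B b b = 0 ∧ ∃ a ∈ W, a ≠ 0 ∧ B a a = 0 ∧ PP B H (a + b)

theorem Mx.all [Finite F] [FiniteDimensional F V] (hB : HForm B) (hi : ∀ h ∈ H, ∀ x y, B (h x) (h y) = B x y)
    {W : Submodule F V} (hW : WW B H W) (h4 : 4 ≤ finrank F W) {b : V} (hb : Mx B H W b) {a : V} (ha : a ∈ W)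
    (ha0 : a ≠ 0) (haa : B a a = 0) : PP B H (a + b) := by
  obtain ⟨-, hb1, -, a', ha', ha0', haa', hp⟩ := hb
  obtain ⟨h, hh, h1, h2⟩ := hW.trans hB h4 ha' ha ha0' ha0 (haa'.trans haa.symm)
  have h3 := hp.map hh (hi h hh)
  rwa [map_add, h1, h2 b hb1] at h3

/-- hyperbolic pairs in `W` -/
theorem exists_hyp [Finite F] [FiniteDimensional F V] (hB : HForm B) {W : Submodule F V}
    (hW : ∀ x ∈ W, (∀ y ∈ W, B x y = 0) → x = 0) (h2 : 2 ≤ finrank F W) :
    ∃ e ∈ W, ∃ f ∈ W, B e e = 0 ∧ B f f = 0 ∧ B e f = 1 := by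
  obtain ⟨e, he, he0, hee⟩ := exists_iso_mem hB h2
  obtain ⟨y, hy, hey⟩ : ∃ y ∈ W, B e y ≠ 0 := by
    by_contra hcon
    push Not at hcon
    exact he0 (hW e he hcon)
  have h1 : B e ((B e y)⁻¹ • y) = 1 := by rw [smul_right, inv_mul_cancel₀ hey]
  obtain ⟨c, hc⟩ := exists_iso hB hee h1
  refine ⟨e, he, _, W.add_mem (W.smul_mem _ hy) (W.smul_mem c he), hee, hc, ?_⟩
  rw [map_add, h1, smul_right, hee, mul_zero, add_zero]

/-- the mixed components are pairwise orthogonal -/
theorem Mx.orth [Finite F] [FiniteDimensional F V] (hB : HForm B) (hi : ∀ h ∈ H, ∀ x y, B (h x) (h y) = B x y)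
    {W : Submodule F V} (hW : WW B H W) (h4 : 4 ≤ finrank F W)
    (hmax : ∀ W', WW B H W' → finrank F W' ≤ finrank F W) {b b' : V} (hb : Mx B H W b) (hb' : Mx B H W b') :
    B b b' = 0 := by
  by_contra hη
  obtain ⟨ζ, hζ⟩ := exists_not_fixed' hB
  obtain ⟨t, ht0, ht⟩ := exists_trz hB
  obtain ⟨e, he, f, hf, hee, hff, hef⟩ := exists_hyp hB hW.nd (by omega)
  have hζ0 : ζ ≠ 0 := by
    rintro rfl
    exact hζ (map_zero σ)
  have hζ1 : ζ - 1 ≠ 0 := by
    intro h
    rw [sub_eq_zero] at h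
    rw [h] at hζ
    exact hζ (map_one σ)
  have he0 : e ≠ 0 := by
    rintro rfl
    rw [map_zero, LinearMap.zero_apply] at hef
    exact zero_ne_one hef
  have hf0 : f ≠ 0 := by
    rintro rfl
    rw [map_zero] at hef
    exact zero_ne_one hef
  have hfe : B f e = 1 := by rw [sw hB e f, hef, map_one]
  set η := B b b' with hηd
  have hρ : η * (ζ - 1) ≠ 0 := mul_ne_zero hη hζ1
  have hb'b : B b' b = σ η := sw hB b b'
  -- the points
  have hp := hb.all hB hi hW h4 he he0 hee
  have hff' : B ((η * (ζ - 1)) • f) ((η * (ζ - 1)) • f) = 0 := by rw [smul_left, smul_right, hff, mul_zero, mul_zero]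
  have hp' := hb'.all hB hi hW h4 (W.smul_mem (η * (ζ - 1)) hf) (smul_ne_zero hρ hf0) hff'
  obtain ⟨-, hb1, hbb, -⟩ := hb
  obtain ⟨-, hb1', hbb', -⟩ := hb'
  have hbe : ∀ w ∈ W, B b w = 0 := fun w hw => hB.swap_zero (hb1 w hw)
  have hbe' : ∀ w ∈ W, B b' w = 0 := fun w hw => hB.swap_zero (hb1' w hw)
  have huu : B (e + b) (e + b) = 0 := by
    rw [map_add, map_add, LinearMap.add_apply, LinearMap.add_apply, hee, hbb, hb1 e he, hbe e he]
    ring
  have huu' : B ((η * (ζ - 1)) • f + b') ((η * (ζ - 1)) • f + b') = 0 := by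
    rw [map_add, map_add, LinearMap.add_apply, LinearMap.add_apply, hff', hbb', hb1' _ (W.smul_mem _ hf),
      hbe' _ (W.smul_mem _ hf)]
    ring
  have huv : B (e + b) ((η * (ζ - 1)) • f + b') = η * ζ := by
    rw [map_add, map_add, LinearMap.add_apply, LinearMap.add_apply, smul_right, hef, hb1' e he,
      hbe _ (W.smul_mem _ hf), ← hηd]
    ring
  have hvu : B ((η * (ζ - 1)) • f + b') (e + b) = σ (η * ζ) := by
    rw [← huv]
    exact sw hB _ _
  have hκ : η * ζ ≠ 0 := mul_ne_zero hη hζ0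
  have hsκ := sig_ne_zero (σ := σ) hκ
  have hsη := sig_ne_zero (σ := σ) hη
  have hsζ := sig_ne_zero (σ := σ) hζ0
  have hst : σ t = -t := by linear_combination ht
  have hm : B ((e + b) + (t / (η * ζ)) • ((η * (ζ - 1)) • f + b')) ((e + b) + (t / (η * ζ)) • ((η * (ζ - 1)) • f + b')) = 0 := by
    rw [quad, huu, huu', huv, hvu, map_div₀, hst]
    field_simp
    ring
  have hpl := hp.line hB hi hp' huu huu' (by rw [huv]; exact hκ) hm
  have hsplit : (e + b) + (t / (η * ζ)) • ((η * (ζ - 1)) • f + b') =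
      (e + (t / (η * ζ)) • (η * (ζ - 1)) • f) + (b + (t / (η * ζ)) • b') := by
    rw [smul_add]
    abel
  rw [hsplit] at hpl hm
  have hlast := hW.no_aniso hB hi h4 hmax (W.add_mem he (W.smul_mem _ (W.smul_mem _ hf))) (fun w hw => by
    rw [map_add, smul_right, hb1 w hw, hb1' w hw]
    ring) hpl hm
  rw [quad, hbb, hbb', hb'b, ← hηd, map_div₀, map_mul, hst] at hlast
  apply hζ
  have h5 : t * (σ ζ - ζ) * (η * σ η) = 0 := by
    field_simp at hlast
    linear_combination hlast
  have h6 := (mul_eq_zero.1 h5).resolve_right (mul_ne_zero hη hsη)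
  exact sub_eq_zero.1 ((mul_eq_zero.1 h6).resolve_left ht0)

/-- the mixed components are orthogonal to all centres -/
theorem Mx.perp [Finite F] [FiniteDimensional F V] (hB : HForm B) (hi : ∀ h ∈ H, ∀ x y, B (h x) (h y) = B x y)
    {W : Submodule F V} (hW : WW B H W) (h4 : 4 ≤ finrank F W)
    (hmax : ∀ W', WW B H W' → finrank F W' ≤ finrank F W) {b p : V} (hb : Mx B H W b) (hpp : B p p = 0)
    (hp : PP B H p) : B b p = 0 := by
  obtain ⟨a1, ha1, b1, hb1, rfl⟩ := exists_decomp hB hW.nd p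
  have hbe : ∀ w ∈ W, B b w = 0 := fun w hw => hB.swap_zero (hb.2.1 w hw)
  rw [map_add, hbe a1 ha1, zero_add]
  by_cases h1 : b1 = 0
  · rw [h1, map_zero]
  have hb1b1 : B b1 b1 = 0 := hW.no_aniso hB hi h4 hmax ha1 hb1 hp hpp
  have ha1a1 : B a1 a1 = 0 := by
    rw [map_add, map_add, LinearMap.add_apply, LinearMap.add_apply, hb1 a1 ha1, hB.swap_zero (hb1 a1 ha1),
      hb1b1] at hpp
    linear_combination hpp
  by_cases h2 : a1 = 0
  · by_contra hne
    rw [h2, zero_add] at hp
    obtain ⟨t, ht0, ht⟩ := exists_trz hB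
    obtain ⟨g, hg⟩ := exists_tv hb1b1 t
    have hgH := hp t ht g hg
    obtain ⟨a, ha, ha0, haa, hpa⟩ := hb.2.2.2
    have h3 := hpa.map hgH (hi g hgH)
    have hga : g a = a := by rw [hg, hB.swap_zero (hb1 a ha), mul_zero, zero_smul, add_zero]
    rw [map_add, hga] at h3
    have hgb : g b = b + (t * B b1 b) • b1 := hg b
    have hbgb : B b (g b) ≠ 0 := by
      rw [hgb, map_add, hb.2.2.1, zero_add, smul_right]
      exact mul_ne_zero (mul_ne_zero ht0 fun e => hne (hB.swap_zero e)) hne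
    have hMx : Mx B H W (g b) := by
      refine ⟨fun e => hbgb (by rw [e, map_zero]), fun w hw => ?_, ?_, a, ha, ha0, haa, h3⟩
      · rw [hgb, map_add, hb.2.1 w hw, smul_right, hb1 w hw, mul_zero, add_zero]
      · rw [hi g hgH, hb.2.2.1]
    exact hbgb (hb.orth hB hi hW h4 hmax hMx)
  · exact hb.orth hB hi hW h4 hmax ⟨h1, hb1, hb1b1, a1, ha1, h2, ha1a1, hp⟩

/-- the isotropic vectors of `W` span `W` -/
theorem span_iso [Finite F] [FiniteDimensional F V] (hB : HForm B) {W : Submodule F V}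
    (hW : ∀ x ∈ W, (∀ y ∈ W, B x y = 0) → x = 0) (h2 : 2 ≤ finrank F W) :
    W ≤ Submodule.span F {v | v ∈ W ∧ B v v = 0} := by
  obtain ⟨e, he, f, hf, hee, hff, hef⟩ := exists_hyp hB hW h2
  have h1 : ∀ v ∈ W, B e v ≠ 0 → v ∈ Submodule.span F {v | v ∈ W ∧ B v v = 0} := by
    intro v hv hev
    have h1 : B e ((B e v)⁻¹ • v) = 1 := by rw [smul_right, inv_mul_cancel₀ hev]
    obtain ⟨c, hc⟩ := exists_iso hB hee h1
    have h3 : (B e v)⁻¹ • v + c • e ∈ Submodule.span F {v | v ∈ W ∧ B v v = 0} :=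
      Submodule.subset_span ⟨W.add_mem (W.smul_mem _ hv) (W.smul_mem c he), hc⟩
    have h4 : e ∈ Submodule.span F {v | v ∈ W ∧ B v v = 0} := Submodule.subset_span ⟨he, hee⟩
    have h5 : v = (B e v) • (((B e v)⁻¹ • v + c • e) - c • e) := by
      rw [add_sub_cancel_right, smul_smul, mul_inv_cancel₀ hev, one_smul]
    rw [h5]
    exact Submodule.smul_mem _ _ (Submodule.sub_mem _ h3 (Submodule.smul_mem _ _ h4))
  intro v hv
  by_cases hev : B e v = 0
  · have h3 := h1 (v + f) (W.add_mem hv hf) (by rw [map_add, hev, hef, zero_add]; exact one_ne_zero)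
    have h4 : f ∈ Submodule.span F {v | v ∈ W ∧ B v v = 0} := Submodule.subset_span ⟨hf, hff⟩
    have h5 := Submodule.sub_mem _ h3 h4
    rwa [add_sub_cancel_right] at h5
  · exact h1 v hv hev

/-- **the main theorem** -/
theorem main [Finite F] [FiniteDimensional F V] (hB : HForm B) (hi : ∀ h ∈ H, ∀ x y, B (h x) (h y) = B x y)
    (irr : ∀ Y : Submodule F V, (∀ h ∈ H, ∀ y ∈ Y, h y ∈ Y) → Y = ⊥ ∨ Y = ⊤)
    {W₀ : Submodule F V} (hW₀ : WW B H W₀) (h4₀ : 4 ≤ finrank F W₀) :
    SIso B ≤ H ∨ ∃ D : Submodule F V, D ≠ ⊤ ∧ (∀ x ∈ D, (∀ y ∈ D, B x y = 0) → x = 0) ∧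
      (∀ h ∈ H, D.map (h : V →ₗ[F] V) = D ∨ ∀ x ∈ D.map (h : V →ₗ[F] V), ∀ y ∈ D, B x y = 0) ∧ 4 ≤ finrank F D := by
  have hVf : Finite V := Module.finite_of_finite F
  obtain ⟨W, ⟨hW, h4⟩, hmax'⟩ := Set.exists_max_image {W : Submodule F V | WW B H W ∧ 4 ≤ finrank F W}
    (fun W => finrank F W) (Set.toFinite _) ⟨W₀, hW₀, h4₀⟩
  have hmax : ∀ W', WW B H W' → finrank F W' ≤ finrank F W := by
    intro W' hW'
    by_cases h : 4 ≤ finrank F W'
    · exact hmax' W' ⟨hW', h⟩
    · omega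
  by_cases hT : W = ⊤
  · left
    subst hT
    refine gen hB (by rwa [finrank_top] at h4) fun c hc0 hcc l hl g hg => ?_
    exact hW.pp c trivial hc0 hcc l hl g hg
  right
  -- no mixed centres
  have hno : ∀ b, ¬ Mx B H W b := by
    intro b hb
    let C : Submodule F V :=
      { carrier := {v | ∀ p, B p p = 0 → PP B H p → B p v = 0}
        add_mem' := fun {x y} hx hy p h1 h2 => by rw [map_add, hx p h1 h2, hy p h1 h2, add_zero]
        zero_mem' := fun p _ _ => map_zero _
        smul_mem' := fun c x hx p h1 h2 => by rw [smul_right, hx p h1 h2, mul_zero] }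
    rcases irr C (by
      intro h hh y hy p h1 h2
      have h3 := hi h⁻¹ (H.inv_mem hh)
      have h4 := hy (h⁻¹ p) (by rw [h3, h1]) (h2.map (H.inv_mem hh) h3)
      rw [← hi h hh] at h4
      rwa [← LinearEquiv.mul_apply, mul_inv_cancel] at h4) with h | h
    · have : b ∈ C := fun p h1 h2 => hB.swap_zero (hb.perp hB hi hW h4 hmax h1 h2)
      rw [h, Submodule.mem_bot] at this
      exact hb.1 this
    · obtain ⟨e, he, f, hf, hee, hff, hef⟩ := exists_hyp hB hW.nd (by omega)
      have he0 : e ≠ 0 := by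
        rintro rfl
        rw [map_zero, LinearMap.zero_apply] at hef
        exact zero_ne_one hef
      have : f ∈ C := by rw [h]; trivial
      have h5 := this e hee (hW.pp e he he0 hee)
      rw [hef] at h5
      exact one_ne_zero h5
  have hdich : ∀ p, B p p = 0 → PP B H p → p ∈ W ∨ ∀ w ∈ W, B w p = 0 := by
    intro p hpp hp
    obtain ⟨a1, ha1, b1, hb1, rfl⟩ := exists_decomp hB hW.nd p
    by_cases h1 : b1 = 0
    · left
      rwa [h1, add_zero]
    by_cases h2 : a1 = 0
    · right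
      rwa [h2, zero_add]
    exfalso
    have hb1b1 : B b1 b1 = 0 := hW.no_aniso hB hi h4 hmax ha1 hb1 hp hpp
    have ha1a1 : B a1 a1 = 0 := by
      rw [map_add, map_add, LinearMap.add_apply, LinearMap.add_apply, hb1 a1 ha1, hB.swap_zero (hb1 a1 ha1),
        hb1b1] at hpp
      linear_combination hpp
    exact hno b1 ⟨h1, hb1, hb1b1, a1, ha1, h2, ha1a1, hp⟩
  refine ⟨W, hT, hW.nd, fun h hh => ?_, h4⟩
  have hih := hi h hh
  have himg : ∀ v ∈ W, B v v = 0 → h v ∈ W ∨ ∀ w ∈ W, B w (h v) = 0 := by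
    intro v hv hvv
    by_cases h0 : v = 0
    · left
      rw [h0, map_zero]
      exact W.zero_mem
    · exact hdich _ (by rw [hih, hvv]) ((hW.pp v hv h0 hvv).map hh hih)
  by_cases hall : ∀ v ∈ W, B v v = 0 → h v ∈ W
  · left
    have hle : W.map (h : V →ₗ[F] V) ≤ W := by
      rw [Submodule.map_le_iff_le_comap]
      refine (span_iso hB hW.nd (by omega)).trans (Submodule.span_le.2 ?_)
      rintro v ⟨hv, hvv⟩
      exact hall v hv hvv
    exact Submodule.eq_of_le_of_finrank_eq hle (LinearEquiv.finrank_map_eq h W)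
  · right
    push Not at hall
    obtain ⟨v, hv, hvv, hhv⟩ := hall
    have hv' := (himg v hv hvv).resolve_left hhv
    have hall' : ∀ u ∈ W, B u u = 0 → ∀ w ∈ W, B w (h u) = 0 := by
      intro u hu huu
      rcases himg u hu huu with h1 | h1
      · -- `h u ∈ W`, `h v ⟂ W`
        by_cases hu0 : h u = 0
        · intro w _
          rw [hu0, map_zero]
        exfalso
        have h2 : B (h u) (h v) = 0 := hv' _ h1
        have h3 := hB.swap_zero h2
        rw [hih] at h2 h3
        rcases himg (u + v) (W.add_mem hu hv) (by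
          rw [map_add, map_add, LinearMap.add_apply, LinearMap.add_apply, huu, hvv, h2, h3]
          ring) with h4 | h4
        · rw [map_add] at h4
          exact hhv ((W.add_mem_iff_right h1).1 h4)
        · apply hu0
          refine hW.nd _ h1 fun w hw => hB.swap_zero ?_
          have h5 := h4 w hw
          rwa [map_add, map_add, hv' w hw, add_zero] at h5
      · exact h1
    have hle : W ≤ (pp B W).comap (h : V →ₗ[F] V) := by
      refine (span_iso hB hW.nd (by omega)).trans (Submodule.span_le.2 ?_)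
      rintro u ⟨hu, huu⟩
      exact fun w hw => hB.swap_zero (hall' u hu huu w hw)
    rintro x ⟨u, hu, rfl⟩ y hy
    exact hle hu y hy

end Cfsg.Agent.H450.Bs
end

-- part: H881/Bs/Conj
section
prune_inst 0x4000000020000000502020000000000000000030000c1000102000000210904260000200200001010000008004811000000021000000a008800400100000400000201000000220008000080000000000000000000000000000000000000000000000
set_option linter.all false
open scoped Cfsg.Agent.FastGrp

/-!
# S5733: generic counting of conjugates of torus elements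

* `card_le_of_fiber`, `conj_count`;
* `mu e t` : multiplication by `t : Lˣ` transported to `V` by `e : V ≃ₗ[F] L`;
* `irr_mu` : it is irreducible if `F[t] = L`;
* `irr_count` : `|G| |E| ≤ dim V * |{c : mu e c ∈ G}| * |{conjugates of mu e t, t ∈ E}|`.
-/

set_option autoImplicit false

namespace Cfsg.Agent.H881.Bs

open Cfsg.Agent.H847.Bs

theorem card_le_of_fiber {α β : Type*} [Finite α] [Finite β] (f : α → β) (n : ℕ)
    (h : ∀ b, Nat.card {a // f a = b} ≤ n) : Nat.card α ≤ n * Nat.card β := by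
  have := Fintype.ofFinite β
  rw [← Nat.card_congr (Equiv.sigmaFiberEquiv f), Nat.card_sigma]
  calc ∑ b : β, Nat.card {a // f a = b} ≤ ∑ _b : β, n := Finset.sum_le_sum fun b _ => h b
    _ = n * Nat.card β := by rw [Finset.sum_const, Finset.card_univ, smul_eq_mul, Nat.card_eq_fintype_card, mul_comm]

/-- **Counting conjugates.** -/
theorem conj_count {Γ : Type*} [Group Γ] [Finite Γ] (G : Subgroup Γ) (S : Set Γ) (d m : ℕ)
    (hd : ∀ t ∈ S, Nat.card {t' // t' ∈ S ∧ ∃ g ∈ G, g * t * g⁻¹ = t'} ≤ d)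
    (hm : ∀ t ∈ S, Nat.card {g // g ∈ G ∧ g * t = t * g} ≤ m) :
    Nat.card G * Nat.card S ≤ d * m * Nat.card {z // ∃ g ∈ G, ∃ t ∈ S, z = g * t * g⁻¹} := by
  rw [← Nat.card_prod]
  refine card_le_of_fiber (fun p : G × S =>
    (⟨p.1 * p.2 * (p.1 : Γ)⁻¹, p.1, p.1.2, p.2, p.2.2, rfl⟩ : {z // ∃ g ∈ G, ∃ t ∈ S, z = g * t * g⁻¹})) _ ?_
  rintro ⟨z, g₀, hg₀, t₀, ht₀, hz⟩
  -- the map to the second component
  have hconj : ∀ p : {p : G × S // (⟨p.1 * p.2 * (p.1 : Γ)⁻¹, p.1, p.1.2, p.2, p.2.2, rfl⟩ :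
      {z // ∃ g ∈ G, ∃ t ∈ S, z = g * t * g⁻¹}) = ⟨z, g₀, hg₀, t₀, ht₀, hz⟩},
      (p.1.1 : Γ) * p.1.2 * (p.1.1 : Γ)⁻¹ = z := fun p => congrArg Subtype.val p.2
  refine le_trans (card_le_of_fiber (fun p => (⟨p.1.2, p.1.2.2, (p.1.1 : Γ)⁻¹ * g₀,
    G.mul_mem (G.inv_mem p.1.1.2) hg₀, ?_⟩ : {t' // t' ∈ S ∧ ∃ g ∈ G, g * t₀ * g⁻¹ = t'})) m ?_) ?_
  · have h1 := (hconj p).trans hz
    calc (p.1.1 : Γ)⁻¹ * g₀ * t₀ * ((p.1.1 : Γ)⁻¹ * g₀)⁻¹ = (p.1.1 : Γ)⁻¹ * (g₀ * t₀ * g₀⁻¹) * p.1.1 := by group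
      _ = (p.1.1 : Γ)⁻¹ * (p.1.1 * p.1.2 * (p.1.1 : Γ)⁻¹) * p.1.1 := by rw [h1]
      _ = p.1.2 := by group
  · rintro ⟨t, ht, -⟩
    -- the elements with second component `t`
    by_cases hemp : Nonempty {p : {p : G × S // (⟨p.1 * p.2 * (p.1 : Γ)⁻¹, p.1, p.1.2, p.2, p.2.2, rfl⟩ :
        {z // ∃ g ∈ G, ∃ t ∈ S, z = g * t * g⁻¹}) = ⟨z, g₀, hg₀, t₀, ht₀, hz⟩} // (p.1.2 : Γ) = t}
    · obtain ⟨⟨p₁, hp₁⟩⟩ := hemp
      refine le_trans ?_ (hm t ht)
      refine Nat.card_le_card_of_injective (fun p => (⟨(p₁.1.1 : Γ)⁻¹ * p.1.1.1,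
        G.mul_mem (G.inv_mem p₁.1.1.2) p.1.1.1.2, ?_⟩ : {g // g ∈ G ∧ g * t = t * g})) ?_
      · have h1 := hconj p₁
        have h2 := hconj p.1
        have h3 : (p.1.1.2 : Γ) = t := congrArg Subtype.val p.2
        rw [hp₁] at h1
        rw [h3] at h2
        calc (p₁.1.1 : Γ)⁻¹ * p.1.1.1 * t = (p₁.1.1 : Γ)⁻¹ * (p.1.1.1 * t * (p.1.1.1 : Γ)⁻¹) * p.1.1.1 := by group
          _ = (p₁.1.1 : Γ)⁻¹ * (p₁.1.1 * t * (p₁.1.1 : Γ)⁻¹) * p.1.1.1 := by rw [h2, h1]
          _ = t * ((p₁.1.1 : Γ)⁻¹ * p.1.1.1) := by group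
      · intro p p' h
        have h1 : (p₁.1.1 : Γ)⁻¹ * p.1.1.1 = (p₁.1.1 : Γ)⁻¹ * p'.1.1.1 := congrArg Subtype.val h
        have h2 : (p.1.1.1 : Γ) = p'.1.1.1 := mul_left_cancel h1
        have h3 : (p.1.1.2 : Γ) = t := congrArg Subtype.val p.2
        have h4 : (p'.1.1.2 : Γ) = t := congrArg Subtype.val p'.2
        exact Subtype.ext (Subtype.ext (Prod.ext (Subtype.ext h2) (Subtype.ext (h3.trans h4.symm))))
    · refine le_trans (le_of_eq ?_) (Nat.zero_le _)
      rw [Nat.card_eq_zero]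
      exact Or.inl ⟨fun p => hemp ⟨⟨p.1, congrArg Subtype.val p.2⟩⟩⟩
  · rw [mul_comm d m]
    exact Nat.mul_le_mul_left m (hd t₀ ht₀)

section mu

variable {F V L : Type*} [Field F] [AddCommGroup V] [Module F V] [Field L] [Algebra F L]

/-- multiplication by a unit of `L` -/
def mul (F : Type*) {L : Type*} [Field F] [Field L] [Algebra F L] (t : Lˣ) : L ≃ₗ[F] L :=
  { toFun := fun x => t * x
    map_add' := fun x y => mul_add _ _ _
    map_smul' := fun a x => by rw [RingHom.id_apply, mul_smul_comm]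
    invFun := fun x => (t⁻¹ : Lˣ) * x
    left_inv := fun x => by
      change ((t⁻¹ : Lˣ) : L) * ((t : L) * x) = x
      rw [← mul_assoc, Units.inv_mul, one_mul]
    right_inv := fun x => by
      change (t : L) * (((t⁻¹ : Lˣ) : L) * x) = x
      rw [← mul_assoc, Units.mul_inv, one_mul] }

@[simp] theorem mul_apply (t : Lˣ) (x : L) : mul F t x = t * x := rfl

/-- multiplication by a unit of `L`, transported to `V` -/
def mu (e : V ≃ₗ[F] L) (t : Lˣ) : V ≃ₗ[F] V := e ≪≫ₗ mul F t ≪≫ₗ e.symm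

theorem mu_apply (e : V ≃ₗ[F] L) (t : Lˣ) (v : V) : mu e t v = e.symm (t * e v) := rfl

theorem e_mu (e : V ≃ₗ[F] L) (t : Lˣ) (v : V) : e (mu e t v) = t * e v := by
  rw [mu_apply, e.apply_symm_apply]

theorem mu_injective (e : V ≃ₗ[F] L) : Function.Injective (mu e) := by
  intro s t h
  have h1 : mu e s (e.symm 1) = mu e t (e.symm 1) := by rw [h]
  have h2 := congrArg e h1
  rw [e_mu, e_mu, e.apply_symm_apply, mul_one, mul_one] at h2
  exact Units.ext h2

/-- `t` generates `L` over `F` -/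
def Gen (F : Type*) {L : Type*} [Field F] [Field L] [Algebra F L] (t : L) : Prop := Algebra.adjoin F {t} = ⊤

theorem Gen.mem {t : L} (h : Gen F t) (P : L → Prop) (h0 : ∀ a : F, P (algebraMap F L a)) (ht : P t)
    (hadd : ∀ x y, P x → P y → P (x + y)) (hmul : ∀ x y, P x → P y → P (x * y)) (x : L) : P x := by
  have hx : x ∈ Algebra.adjoin F {t} := by rw [h]; exact Algebra.mem_top
  induction hx using Algebra.adjoin_induction with
  | mem y hy => rw [Set.mem_singleton_iff.1 hy]; exact ht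
  | algebraMap r => exact h0 r
  | add x y _ _ hx hy => exact hadd x y hx hy
  | mul x y _ _ hx hy => exact hmul x y hx hy

/-- a subspace of `L` stable under a generator is stable under `L` -/
theorem smul_mem_of_gen {t : L} (h : Gen F t) {Y : Submodule F L} (hY : ∀ y ∈ Y, t * y ∈ Y) (c : L) :
    ∀ y ∈ Y, c * y ∈ Y := by
  refine h.mem (fun c => ∀ y ∈ Y, c * y ∈ Y) (fun a y hy => ?_) hY (fun x z hx hz y hy => ?_)
    (fun x z hx hz y hy => ?_) c
  · rw [← Algebra.smul_def]; exact Y.smul_mem a hy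
  · rw [add_mul]; exact Y.add_mem (hx y hy) (hz y hy)
  · rw [mul_assoc]; exact hx _ (hz y hy)

theorem irr_mul {t : Lˣ} (h : Gen F (t : L)) : Irr (mul F t) (⊤ : Submodule F L) where
  inv := fun _ _ => Submodule.mem_top
  ne_bot := top_ne_bot
  min := by
    intro Y _ hY
    by_cases h0 : Y = ⊥
    · exact Or.inl h0
    · right
      obtain ⟨y, hy, hy0⟩ := Submodule.exists_mem_ne_zero_of_ne_bot h0
      rw [eq_top_iff]
      intro x _
      have h1 := smul_mem_of_gen h hY (x * y⁻¹) y hy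
      rwa [mul_assoc, inv_mul_cancel₀ hy0, mul_one] at h1

theorem irr_mu (e : V ≃ₗ[F] L) {t : Lˣ} (h : Gen F (t : L)) : Irr (mu e t) (⊤ : Submodule F V) where
  inv := fun _ _ => Submodule.mem_top
  ne_bot := by
    intro h0
    have h1 : e.symm 1 ∈ (⊤ : Submodule F V) := Submodule.mem_top
    rw [h0, Submodule.mem_bot] at h1
    have h2 : (1 : L) = 0 := by rw [← e.apply_symm_apply 1, h1, map_zero]
    exact one_ne_zero h2
  min := by
    intro Y _ hY
    have h1 := (irr_mul h).min (Y.map (e : V →ₗ[F] L)) le_top (by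
      rintro x ⟨y, hy, rfl⟩
      exact ⟨mu e t y, hY y hy, e_mu e t y⟩)
    rcases h1 with h1 | h1
    · left
      exact (Submodule.map_eq_bot_iff (e := e) (p := Y)).1 h1
    · right
      rw [eq_top_iff]
      intro v _
      have h2 : e v ∈ Y.map (e : V →ₗ[F] L) := by rw [h1]; exact Submodule.mem_top
      obtain ⟨y, hy, hye⟩ := h2
      rwa [← e.injective hye]

/-- an endomorphism commuting with a generator is a multiplication -/
theorem eq_mul_of_comm {t : L} (h : Gen F t) {g : L →ₗ[F] L} (hg : ∀ x, g (t * x) = t * g x) (x : L) :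
    g x = g 1 * x := by
  have h1 : ∀ c : L, ∀ x, g (c * x) = c * g x := by
    refine h.mem (fun c => ∀ x, g (c * x) = c * g x) (fun a x => ?_) hg (fun c c' hc hc' x => ?_)
      (fun c c' hc hc' x => ?_)
    · rw [← Algebra.smul_def, map_smul, Algebra.smul_def]
    · rw [add_mul, map_add, hc, hc', add_mul]
    · rw [mul_assoc, hc, hc', mul_assoc]
  have h2 := h1 x 1
  rw [mul_one] at h2
  rw [h2, mul_comm]

/-- **The centraliser of an irreducible element.** -/
theorem exists_mu_of_comm (e : V ≃ₗ[F] L) {t : Lˣ} (h : Gen F (t : L)) {g : V ≃ₗ[F] V}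
    (hg : g * mu e t = mu e t * g) : ∃ c : Lˣ, g = mu e c := by
  set g' : L →ₗ[F] L := (e : V →ₗ[F] L) ∘ₗ (g : V →ₗ[F] V) ∘ₗ (e.symm : L →ₗ[F] V) with hg'
  have h1 : ∀ x, g' (t * x) = t * g' x := by
    intro x
    have h2 := congrArg (fun f : V ≃ₗ[F] V => e (f (e.symm x))) hg
    change e (g (mu e t (e.symm x))) = e (mu e t (g (e.symm x))) at h2
    rw [e_mu, mu_apply, e.apply_symm_apply] at h2
    exact h2
  have h2 := eq_mul_of_comm h h1
  have h3 : g' 1 ≠ 0 := by
    intro h0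
    have h4 : e (g (e.symm 1)) = 0 := h0
    have h5 : e.symm (1 : L) = 0 := by
      rw [LinearEquiv.map_eq_zero_iff, LinearEquiv.map_eq_zero_iff] at h4
      exact h4
    rw [LinearEquiv.map_eq_zero_iff] at h5
    exact one_ne_zero h5
  refine ⟨Units.mk0 _ h3, LinearEquiv.ext fun v => ?_⟩
  rw [mu_apply, Units.val_mk0, ← h2 (e v)]
  change _ = e.symm (e (g (e.symm (e v))))
  rw [e.symm_apply_apply, e.symm_apply_apply]

/-- conjugate multiplications satisfy the same polynomials -/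
theorem aeval_mul (t : Lˣ) (p : Polynomial F) (x : L) :
    (Polynomial.aeval (mul F t : L →ₗ[F] L) p) x = Polynomial.aeval (t : L) p * x := by
  induction p using Polynomial.induction_on' with
  | add p q hp hq => rw [map_add, map_add, LinearMap.add_apply, hp, hq, add_mul]
  | monomial n a =>
    rw [Polynomial.aeval_monomial, Polynomial.aeval_monomial, Module.End.mul_apply, Module.algebraMap_end_apply]
    have h1 : ∀ n : ℕ, ((mul F t : L →ₗ[F] L) ^ n) x = (t : L) ^ n * x := by
      intro n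
      induction n with
      | zero => simp
      | succ n ih =>
        rw [pow_succ', Module.End.mul_apply, ih]
        change (t : L) * _ = _
        rw [pow_succ', mul_assoc]
    rw [h1, Algebra.smul_def, mul_assoc]

theorem aeval_lin {W : Type*} [AddCommGroup W] [Module F W] (g : V →ₗ[F] W) (x : V →ₗ[F] V) (y : W →ₗ[F] W)
    (h : ∀ v, g (x v) = y (g v)) (p : Polynomial F) (v : V) :
    g (Polynomial.aeval x p v) = Polynomial.aeval y p (g v) := by
  induction p using Polynomial.induction_on' with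
  | add p q hp hq => rw [map_add, map_add, LinearMap.add_apply, LinearMap.add_apply, map_add, hp, hq]
  | monomial n a =>
    rw [Polynomial.aeval_monomial, Polynomial.aeval_monomial, Module.End.mul_apply, Module.End.mul_apply,
      Module.algebraMap_end_apply, Module.algebraMap_end_apply, map_smul]
    congr 1
    induction n generalizing v with
    | zero => simp
    | succ n ih => rw [pow_succ, pow_succ, Module.End.mul_apply, Module.End.mul_apply, ih, h]

theorem aeval_conj {W : Type*} [AddCommGroup W] [Module F W] (g : V ≃ₗ[F] W) (x : V →ₗ[F] V) (y : W →ₗ[F] W)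
    (h : ∀ v, g (x v) = y (g v)) (p : Polynomial F) (v : V) :
    g (Polynomial.aeval x p v) = Polynomial.aeval y p (g v) :=
  aeval_lin (g : V →ₗ[F] W) x y h p v

theorem root_of_conj (e : V ≃ₗ[F] L) {s t : Lˣ} {g : V ≃ₗ[F] V} (h : g * mu e t * g⁻¹ = mu e s) (p : Polynomial F)
    (hp : Polynomial.aeval (t : L) p = 0) : Polynomial.aeval (s : L) p = 0 := by
  -- the conjugating map on `L`
  set g' : L ≃ₗ[F] L := e.symm ≪≫ₗ g ≪≫ₗ e with hg'
  have h1 : ∀ x, g' (mul F t x) = mul F s (g' x) := by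
    intro x
    have h2 : g * mu e t = mu e s * g := by rw [← h]; group
    have h3 := congrArg (fun f : V ≃ₗ[F] V => e (f (e.symm x))) h2
    change e (g (mu e t (e.symm x))) = e (mu e s (g (e.symm x))) at h3
    rw [e_mu, mu_apply, e.apply_symm_apply] at h3
    exact h3
  have h2 := aeval_conj g' (mul F t : L →ₗ[F] L) (mul F s : L →ₗ[F] L) h1 p (g'.symm 1)
  rw [aeval_mul, hp, zero_mul, map_zero, g'.apply_symm_apply, aeval_mul, mul_one] at h2
  exact h2.symm

theorem card_rootSet_le (p : Polynomial F) : Nat.card (p.rootSet L) ≤ p.natDegree := by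
  classical
  have h : p.rootSet L = ((p.map (algebraMap F L)).roots.toFinset : Set L) := by
    rw [Polynomial.rootSet_def]
  rw [h, Nat.card_coe_set_eq, Set.ncard_coe_finset]
  refine (Multiset.toFinset_card_le _).trans ((Polynomial.card_roots' _).trans ?_)
  rw [Polynomial.natDegree_map]

/-- **Counting irreducible elements.** -/
theorem irr_count [Finite V] [Finite L] [FiniteDimensional F L] (e : V ≃ₗ[F] L) (G : Subgroup (V ≃ₗ[F] V))
    (E : Set Lˣ) (hE : ∀ t ∈ E, Gen F (t : L)) :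
    Nat.card G * Nat.card E ≤ Module.finrank F V * Nat.card {c : Lˣ // mu e c ∈ G} *
      Nat.card {z : V ≃ₗ[F] V // ∃ g ∈ G, ∃ t ∈ E, z = g * mu e t * g⁻¹} := by
  classical
  have hfin : Finite (V ≃ₗ[F] V) := Finite.of_injective (fun g : V ≃ₗ[F] V => (g : V → V)) DFunLike.coe_injective
  have h1 := conj_count G (mu e '' E) (Module.finrank F V) (Nat.card {c : Lˣ // mu e c ∈ G}) ?_ ?_
  · have h2 : Nat.card (mu e '' E) = Nat.card E := Nat.card_image_of_injective (mu_injective e) E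
    rw [h2] at h1
    refine h1.trans (Nat.mul_le_mul_left _ (le_of_eq (Nat.card_congr (Equiv.subtypeEquivRight fun z => ?_))))
    constructor
    · rintro ⟨g, hg, _, ⟨t, ht, rfl⟩, rfl⟩
      exact ⟨g, hg, t, ht, rfl⟩
    · rintro ⟨g, hg, t, ht, rfl⟩
      exact ⟨g, hg, _, ⟨t, ht, rfl⟩, rfl⟩
  · rintro _ ⟨t, ht, rfl⟩
    have hint : IsIntegral F (t : L) := Algebra.IsIntegral.isIntegral _
    have h0 : minpoly F (t : L) ≠ 0 := minpoly.ne_zero hint
    have h2 : Nat.card {t' // t' ∈ mu e '' E ∧ ∃ g ∈ G, g * mu e t * g⁻¹ = t'} ≤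
        Nat.card ((minpoly F (t : L)).rootSet L) := by
      refine Nat.card_le_card_of_injective (fun z => ⟨((z.2.1.choose : Lˣ) : L), ?_⟩) ?_
      · rw [Polynomial.mem_rootSet]
        refine ⟨h0, ?_⟩
        obtain ⟨g, hg, h3⟩ := z.2.2
        refine root_of_conj e (h3.trans z.2.1.choose_spec.2.symm) _ (minpoly.aeval _ _)
      · intro z z' h
        have h3 : ((z.2.1.choose : Lˣ) : L) = ((z'.2.1.choose : Lˣ) : L) := congrArg Subtype.val h
        have h4 := Units.ext h3
        refine Subtype.ext ?_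
        rw [← z.2.1.choose_spec.2, ← z'.2.1.choose_spec.2, h4]
    refine h2.trans ((card_rootSet_le _).trans ?_)
    rw [e.finrank_eq]
    exact minpoly.natDegree_le (t : L)
  · rintro _ ⟨t, ht, rfl⟩
    refine Nat.card_le_card_of_injective (fun g => (⟨(exists_mu_of_comm e (hE t ht) g.2.2).choose, ?_⟩ :
      {c : Lˣ // mu e c ∈ G})) ?_
    · rw [← (exists_mu_of_comm e (hE t ht) g.2.2).choose_spec]
      exact g.2.1
    · intro g g' h
      have h2 : (exists_mu_of_comm e (hE t ht) g.2.2).choose = (exists_mu_of_comm e (hE t ht) g'.2.2).choose :=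
        congrArg Subtype.val h
      refine Subtype.ext ?_
      rw [(exists_mu_of_comm e (hE t ht) g.2.2).choose_spec, h2,
        ← (exists_mu_of_comm e (hE t ht) g'.2.2).choose_spec]

end mu

end Cfsg.Agent.H881.Bs
end
end
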