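import Cfsg.Agent.H847.Bs.Defs2
import Cfsg.Agent.H510.CS.Irr_m3
import Cfsg.Agent.Prune
set_option linter.all false
prune_inst 0x7f00000000000000000000000000000000000000000000000000000000000000000000000000000000000000000000000000000000000000000000000000000000000000000000000000000000000000003fffffffffffffffffffffffffffbeffbdffffffff
open scoped Cfsg.Agent.FastGrp

/-!
# Hermitian `Frm` and sesquilinear forms (helper450, S5733)

* `toB hF hΦ` : the sesquilinear form `(x, y) ↦ Φ.B y x` of a hermitian `Φ : Frm F V`;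
* `hform_toB` : it is a nondegenerate Hermitian form in the sense of `H91.U.HForm`;
* `siso_toB` : its special isometry group is `Φ.Iso ⊓ slV F V`;
-/

set_option autoImplicit false

namespace Cfsg.Agent.H450.Bs

open Module Cfsg.Agent.H91.U Cfsg.Agent.H847.Bs Cfsg.Agent.LieClassical.HermBasic

variable {F V : Type*} [Field F] [Fintype F] [AddCommGroup V] [Module F V] {Φ : Frm F V} {r : ℕ}

/-- the sesquilinear form of a hermitian `Frm` -/
noncomputable def toB (hF : Fintype.card F = r ^ 2) (hΦ : IsHerm r Φ) :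
    V →ₛₗ[(conj hF : F →+* F)] V →ₗ[F] F :=
  LinearMap.mk₂'ₛₗ (conj hF : F →+* F) (RingHom.id F) (fun x y => Φ.B y x) (fun x y z => Φ.add_right z x y)
    (fun c x y => by rw [Φ.smul_right, hΦ.s]; rfl) (fun x y z => Φ.add_left y z x)
    (fun c x y => Φ.smul_left c y x)

theorem toB_apply (hF : Fintype.card F = r ^ 2) (hΦ : IsHerm r Φ) (x y : V) : toB hF hΦ x y = Φ.B y x := rfl

theorem hform_toB (hF : Fintype.card F = r ^ 2) (hΦ : IsHerm r Φ) : HForm (toB hF hΦ) where
  nd := ⟨fun x hx => hΦ.nd x fun y => Φ.refl _ _ (hx y), fun y hy => hΦ.nd y fun x => hy x⟩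
  symm := ⟨fun x y => (hΦ.symm y x).symm⟩
  invol := fun a => pow_q_pow_q hF a
  ne_id := fun e => by
    obtain ⟨x, hx⟩ := exists_not_fixed hF
    exact hx (congrArg (fun f : F →+* F => f x) e)

theorem iso_iff (hF : Fintype.card F = r ^ 2) (hΦ : IsHerm r Φ) {g : V ≃ₗ[F] V} :
    g ∈ Φ.Iso ↔ ∀ x y, toB hF hΦ (g x) (g y) = toB hF hΦ x y := by
  constructor
  · exact fun h x y => h.1 y x
  · exact fun h => ⟨fun x y => h y x, fun x => by rw [hΦ.q, hΦ.q]⟩

theorem mem_slV {g : V ≃ₗ[F] V} : g ∈ slV F V ↔ LinearMap.det (g : V →ₗ[F] V) = 1 := Iff.rfl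

theorem siso_toB (hF : Fintype.card F = r ^ 2) (hΦ : IsHerm r Φ) : SIso (toB hF hΦ) = Φ.Iso ⊓ slV F V := by
  ext g
  rw [Subgroup.mem_inf, iso_iff hF hΦ, mem_slV, mem_SIso, and_comm, ← LinearEquiv.coe_det, Units.ext_iff, Units.val_one]

end Cfsg.Agent.H450.Bs
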